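import Groth.Agent.Div21Lib.FamNormal
import Groth.Agent.H23.TrivBasic

/-!
# Sections determined on the fibres over the maximal points, and their trivialisation
-/

set_option autoImplicit false
set_option linter.style.haveILetI false
set_option backward.isDefEq.respectTransparency false
set_option backward.isDefEq.respectTransparency.types false
universe u

open AlgebraicGeometry CategoryTheory CategoryTheory.Limits TopologicalSpace IsLocalRing
open Groth.Agent.CDiv6 (primeOf)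
open Groth.Agent.AModX Groth.Agent.InvX Groth.Agent.Div21Lib

namespace Groth.Agent.InvDescent

variable {X Y : Scheme.{u}} (f : X ⟶ Y)

theorem psi_eq_germ (x : X) {y : Y} (h : f x ⤳ y) {U : Y.Opens} (hy : y ∈ U) (a : Γ(Y, U)) :
    psi f x h (Y.presheaf.germ U y hy a) = X.presheaf.germ (f ⁻¹ᵁ U) x (h.mem_open U.2 hy) (f.app U a) := by
  have h1 := RingHom.congr_fun (congrArg CommRingCat.Hom.hom (Y.presheaf.germ_stalkSpecializes hy h)) a
  show (f.stalkMap x).hom ((Y.presheaf.stalkSpecializes h).hom _) = _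
  rw [show (Y.presheaf.stalkSpecializes h).hom ((Y.presheaf.germ U y hy).hom a) =
    (Y.presheaf.germ U (f x) (h.mem_open U.2 hy)).hom a from h1]
  exact Scheme.Hom.germ_stalkMap_apply f U x (h.mem_open U.2 hy) a

theorem regular_psi [Flat f] (x : X) {y : Y} (h : f x = y) [IsDomain (Y.presheaf.stalk y)] {a : Y.presheaf.stalk y}
    (ha : a ≠ 0) : psi f x (specializes_of_eq h) a ∈ nonZeroDivisors (X.presheaf.stalk x) := by
  obtain ⟨h1, -⟩ := flat_psi f x h
  letI := (psi f x (specializes_of_eq h)).toAlgebra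
  haveI : Module.Flat (Y.presheaf.stalk y) (X.presheaf.stalk x) := h1
  have hreg : IsSMulRegular (Y.presheaf.stalk y) a := fun b c h => mul_left_cancel₀ ha h
  have h2 : IsSMulRegular (X.presheaf.stalk x) (algebraMap (Y.presheaf.stalk y) (X.presheaf.stalk x) a) := hreg.of_flat
  rw [mem_nonZeroDivisors_iff_right]
  intro b hb
  exact h2 (show algebraMap (Y.presheaf.stalk y) (X.presheaf.stalk x) a * b =
    algebraMap (Y.presheaf.stalk y) (X.presheaf.stalk x) a * 0 by rw [mul_zero, mul_comm]; exact hb)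

/-- Maximal points. -/
def IsMaxPt (η : Y) : Prop := ∀ z : Y, z ⤳ η → z = η

theorem maximal_eq_genericPoint {W : Y.Opens} [IsIntegral W.toScheme] {z : Y} (hz : z ∈ W) (h : IsMaxPt z) :
    z = W.ι (genericPoint W.toScheme) :=
  (h _ (((genericPoint_spec W.toScheme).specializes (y := (⟨z, hz⟩ : W.toScheme)) trivial).map W.ι.continuous)).symm

variable [IsLocallyNoetherian X] [Flat f] (hY : Pi1.IsNormalScheme Y)

include hY in
/-- An element of a local ring is nonzero at some generisation over a maximal point. -/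
theorem exists_maximal_spec_ne_zero {x : X} {r : X.presheaf.stalk x} (hr : r ≠ 0) :
    ∃ (x' : X) (hx : x' ⤳ x), IsMaxPt (f x') ∧ (X.presheaf.stalkSpecializes hx).hom r ≠ 0 := by
  haveI := (hY (f x)).1
  obtain ⟨P, hP, hle⟩ := exists_le_isAssociatedPrime_of_isNoetherianRing (X.presheaf.stalk x) r hr
  haveI := hP.isPrime
  obtain ⟨-, v, hv⟩ := Alg6.mem_ass_iff.1 hP
  have hv0 : v ≠ 0 := fun h0 => hP.isPrime.ne_top ((Ideal.eq_top_iff_one _).2 ((hv 1).2 (by rw [h0, smul_zero])))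
  obtain ⟨x', hx, hPx⟩ := H23.StalkPrimes.exists_point P
  refine ⟨x', hx, fun z hz => ?_, fun h0 => ?_⟩
  · have hzx : z ⤳ f x := hz.trans (hx.map f.continuous)
    refine H23.StalkPrimes.primeOf_inj hzx (hx.map f.continuous) ?_
    have hbot : (primeOf (hx.map f.continuous)).asIdeal = ⊥ := by
      rw [← H23.StalkPrimes.comap_primeOf f hx, hPx, eq_bot_iff]
      intro a ha
      by_contra ha0
      have hreg := regular_psi f x rfl (a := a) (fun h => ha0 ((Submodule.mem_bot _).2 h))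
      rw [psi_refl] at hreg
      have h1 := (hv _).1 ha
      rw [smul_eq_mul, mul_comm] at h1
      exact hv0 (mem_nonZeroDivisors_iff_right.1 hreg _ h1)
    rw [hbot, eq_bot_iff, ← hbot]
    exact (H23.StalkPrimes.primeOf_le_iff (hx.map f.continuous) hzx).2 hz
  · letI := (X.presheaf.stalkSpecializes hx).hom.toAlgebra
    haveI : IsLocalization.AtPrime (X.presheaf.stalk x') (primeOf hx).asIdeal :=
      H23.StalkPrimes.isLocalization_primeOf hx
    obtain ⟨⟨s, hs⟩, hsr⟩ := (IsLocalization.map_eq_zero_iff (primeOf hx).asIdeal.primeCompl _ r).1 h0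
    exact hs (hPx.symm ▸ hle (Submodule.mem_colon_singleton.2 (by simpa using hsr)))

/-- The open contains the fibres over the maximal points. -/
def ContainsGeneric (O : X.Opens) : Prop := ∀ x, IsMaxPt (f x) → x ∈ O

variable {f} {O : X.Opens} (hO : ContainsGeneric f O)

include hY hO in
theorem eq_of_res_eq {N : X.Opens} {r r' : Γ(X, N)}
    (h : resR (inf_le_left : N ⊓ O ≤ N) r = resR inf_le_left r') : r = r' := by
  refine TopCat.Presheaf.section_ext X.sheaf _ _ _ fun x hx => ?_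
  by_contra hne
  obtain ⟨x', hx', hmax, h0⟩ := exists_maximal_spec_ne_zero f hY (sub_ne_zero.2 hne)
  refine h0 ?_
  have h1 := congrArg (X.presheaf.germ (N ⊓ O) x' ⟨hx'.mem_open N.2 hx, hO x' hmax⟩) h
  rw [germ_resR', germ_resR'] at h1
  rw [map_sub, sub_eq_zero]
  exact (RingHom.congr_fun (congrArg CommRingCat.Hom.hom (X.presheaf.germ_stalkSpecializes hx hx')) r).trans
    (h1.trans (RingHom.congr_fun (congrArg CommRingCat.Hom.hom (X.presheaf.germ_stalkSpecializes hx hx')) r').symm)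

include hY hO in
theorem sec_ext {L : X.Modules} (hL : PicF.IsInvertible L) {N : X.Opens} {s s' : Γ(L, N)}
    (h : res L (inf_le_left : N ⊓ O ≤ N) s = res L inf_le_left s') : s = s' := by
  refine AModX.eq_of_locally _ _ fun p hp => ?_
  obtain ⟨U, hpU, e, he⟩ := exists_frame hL p
  obtain ⟨a, ha⟩ := he.exists_coord inf_le_right (res L (inf_le_left : N ⊓ U ≤ N) s)
  obtain ⟨b, hb⟩ := he.exists_coord inf_le_right (res L (inf_le_left : N ⊓ U ≤ N) s')
  refine ⟨N ⊓ U, inf_le_left, ⟨hp, hpU⟩, ?_⟩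
  have h1 := congrArg (res L (inf_le_inf_right O inf_le_left : (N ⊓ U) ⊓ O ≤ N ⊓ O)) h
  have ha' := congrArg (res L (inf_le_left : (N ⊓ U) ⊓ O ≤ N ⊓ U)) ha
  have hb' := congrArg (res L (inf_le_left : (N ⊓ U) ⊓ O ≤ N ⊓ U)) hb
  rw [res_res, res_res] at h1
  rw [res_smul, res_res, res_res] at ha' hb'
  rw [ha, hb, eq_of_res_eq hY hO (he.coord_unique _ (ha'.symm.trans (h1.trans hb')))]

omit hO

include hY in
theorem stalkMap_fiberι_bijective [IsLocallyNoetherian Y] {η : Y} (hη : IsMaxPt η) (w : ↥(f.fiber η)) :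
    Function.Bijective ((f.fiberι η).stalkMap w).hom := by
  refine ⟨(RingHom.injective_iff_ker_eq_bot _).2 ?_, (f.fiberι η).stalkMap_surjective w⟩
  haveI := (hY (f (f.fiberι η w))).1
  have hmax : IsMaxPt (f (f.fiberι η w)) := by rw [FlatDvr.fiberι_apply_eq f w]; exact hη
  rw [FlatDvr.ker_stalkMap_fiberι f w, maximalIdeal_eq_bot_of_maximal hmax, Ideal.map_bot]

omit [IsLocallyNoetherian X] in
include hY in
/-- The trivialisations on the fibres over the maximal points extend to a frame on an open. -/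
theorem exists_open_frame [IsLocallyNoetherian X] [IsLocallyNoetherian Y] (L : X.Modules) (hL : PicF.IsInvertible L)
    (hint : ∀ y : Y, ∃ W : Y.Opens, y ∈ W ∧ IsIntegral W.toScheme)
    (htriv : ∀ η : Y, IsMaxPt η → Nonempty ((Scheme.Modules.pullback (f.fiberι η)).obj L ≅
      Coh.structureModule (f.fiber η))) :
    ∃ (O : X.Opens) (σ : Γ(L, O)), ContainsGeneric f O ∧ IsFrame σ := by
  have hloc : ∀ x : {x : X // IsMaxPt (f x)}, ∃ (N : X.Opens) (τ : Γ(L, N)), x.1 ∈ N ∧ IsFrame τ ∧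
      (∀ x' ∈ N, IsMaxPt (f x') → f x' = f x.1) ∧
      (htriv (f x.1) x.2).some.hom.app _ (pullElt (f.fiberι (f x.1)) τ) =
        (show Γ(f.fiber (f x.1), (f.fiberι (f x.1)) ⁻¹ᵁ N) from 1) := by
    rintro ⟨x, hx⟩
    set ι := f.fiberι (f x) with hι
    set φ := (htriv (f x) hx).some
    obtain ⟨W, hxW, hWint⟩ := hint (f x)
    haveI := hWint
    obtain ⟨U, hxU, e, he⟩ := exists_frame hL x
    obtain ⟨w, hw⟩ : x ∈ Set.range ι := by rw [hι, Scheme.Hom.range_fiberι]; rfl
    obtain ⟨a, ha⟩ : ∃ a : Γ(f.fiber (f x), ι ⁻¹ᵁ U), a = φ.hom.app _ (pullElt ι e) := ⟨_, rfl⟩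
    obtain ⟨b, hb⟩ := ((isFrame_pullElt ι he).map_iso φ).exists_coord le_rfl
      (show Γ(Coh.structureModule (f.fiber (f x)), ι ⁻¹ᵁ U) from (1 : Γ(f.fiber (f x), ι ⁻¹ᵁ U)))
    rw [res_self, ← ha] at hb
    replace hb : b * a = 1 := hb.symm
    have hwU : w ∈ ι ⁻¹ᵁ U := show ι w ∈ U by rw [hw]; exact hxU
    obtain ⟨c, hc⟩ := (stalkMap_fiberι_bijective hY hx w).2 ((f.fiber (f x)).presheaf.germ _ w hwU b)
    obtain ⟨C, hxC, c, rfl⟩ := X.presheaf.germ_exist c
    let U' := U ⊓ C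
    have hwU' : w ∈ ι ⁻¹ᵁ U' := ⟨hwU, hxC⟩
    let c' : Γ(X, U') := resR inf_le_right c
    obtain ⟨W', hwW', i₁, i₂, heq⟩ := (f.fiber (f x)).presheaf.germ_eq w hwU' hwU (ι.app U' c') b (by
      rw [← hc, ← Scheme.Hom.germ_stalkMap_apply ι U' w hwU' c']
      exact congrArg (ι.stalkMap w).hom (germ_resR' (inf_le_right : U' ≤ C) hwU' c))
    obtain ⟨O', hO', hOW⟩ := ι.isEmbedding.isInducing.isOpen_iff.1 W'.2
    let N : X.Opens := (U' ⊓ ⟨O', hO'⟩) ⊓ (f ⁻¹ᵁ W ⊓ X.basicOpen c')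
    have hxN : x ∈ N := by
      refine ⟨⟨hw ▸ hwU', hw ▸ (show w ∈ ι ⁻¹' O' from hOW.ge hwW')⟩, hxW, ?_⟩
      rw [← hw]
      refine (Scheme.mem_basicOpen (X := X) c' (ι w) hwU').2 ?_
      refine isUnit_of_map_unit (ι.stalkMap w).hom _ ?_
      rw [show (ι.stalkMap w).hom ((X.presheaf.germ U' (ι w) hwU').hom c') = (f.fiber (f x)).presheaf.germ _ w hwU b from
        (congrArg (ι.stalkMap w).hom (germ_resR' (inf_le_right : U' ≤ C) hwU' c)).trans hc]
      exact (IsUnit.of_mul_eq_one a hb).map _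
    have hNU : N ≤ U := fun z hz => hz.1.1.1
    refine ⟨N, resR (fun z hz => hz.1.1 : N ≤ U') c' • res L hNU e, hxN,
      (he.res hNU).isUnit_smul (isUnit_resR _ _ fun z hz => hz.2.2), fun x' hx' h' => ?_, ?_⟩
    · rw [maximal_eq_genericPoint (W := W) hx'.2.1 h', maximal_eq_genericPoint (W := W) hxW hx]
    · rw [InvX.pullElt_smul, ← res_pullElt, Scheme.Modules.Hom.app_smul, app_res, ← ha]
      show (show Γ(f.fiber (f x), ι ⁻¹ᵁ N) from ι.app N (resR _ c') * resR _ a) = (1 : Γ(f.fiber (f x), ι ⁻¹ᵁ N))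
      have hle : ι ⁻¹ᵁ N ≤ W' := fun z hz => hOW.le (show z ∈ ι ⁻¹' O' from hz.1.2)
      have h1 : ι.app N (resR (fun z hz => hz.1.1 : N ≤ U') c') = resR (hle.trans i₁.le) (ι.app U' c') :=
        ConcreteCategory.congr_hom (ι.naturality (homOfLE (fun z hz => hz.1.1 : N ≤ U')).op) c'
      have h2 := congrArg (resR hle) (show resR i₁.le (ι.app U' c') = resR i₂.le b from heq)
      rw [resR_resR, resR_resR] at h2
      rw [h1, h2, ← map_mul, hb, map_one]
  choose N τ hxN hτ honly hone using hloc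
  let O : X.Opens := ⨆ x, N x
  have hO : ContainsGeneric f O := fun x hx => Opens.mem_iSup.2 ⟨⟨x, hx⟩, hxN ⟨x, hx⟩⟩
  obtain ⟨σ, hσ, -⟩ := existsUnique_glue (M := L) (V := O) N (le_iSup N) (fun p hp => Opens.mem_iSup.1 hp) τ
    fun i j => by
      obtain ⟨g, hg⟩ := (hτ j).exists_coord inf_le_right (res L (inf_le_left : N i ⊓ N j ≤ N i) (τ i))
      suffices hg1 : g = 1 by rw [hg, hg1, one_smul]
      refine eq_of_res_eq hY hO (TopCat.Presheaf.section_ext X.sheaf _ _ _ fun z hz => ?_)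
      refine (germ_resR' _ hz g).trans (Eq.trans ?_ (germ_resR' _ hz (1 : Γ(X, N i ⊓ N j))).symm)
      -- at a point over a maximal point
      by_contra hne
      obtain ⟨x', hx', hmax, h0⟩ := exists_maximal_spec_ne_zero f hY (sub_ne_zero.2 hne)
      have hm : x' ∈ N i ⊓ N j := hx'.mem_open (N i ⊓ N j).2 hz.1
      have hij : f j.1 = f i.1 := (honly j x' hm.2 hmax).symm.trans (honly i x' hm.1 hmax)
      obtain ⟨x, hxi⟩ := i
      obtain ⟨xj, hxj⟩ := j
      obtain ⟨η, hη⟩ : ∃ η, η = f x := ⟨_, rfl⟩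
      have key : ∀ (k : {x : X // IsMaxPt (f x)}) (h : f k.1 = η), ∃ (φ : (Scheme.Modules.pullback (f.fiberι η)).obj L ≅
          Coh.structureModule (f.fiber η)), φ = (htriv η (h ▸ k.2)).some ∧
            φ.hom.app _ (pullElt (f.fiberι η) (τ k)) = (show Γ(f.fiber η, (f.fiberι η) ⁻¹ᵁ N k) from 1) := by
        rintro k rfl
        exact ⟨_, rfl, hone k⟩
      obtain ⟨φ₁, hφ₁, h1⟩ := key ⟨x, hxi⟩ hη.symm
      obtain ⟨φ₂, hφ₂, h2⟩ := key ⟨xj, hxj⟩ (hij.trans hη.symm)
      obtain rfl : φ₂ = φ₁ := hφ₂.trans hφ₁.symm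
      have h3 := congrArg (fun s => φ₂.hom.app _ (pullElt (f.fiberι η) s)) hg
      rw [← res_pullElt, InvX.pullElt_smul, ← res_pullElt, app_res, Scheme.Modules.Hom.app_smul, app_res, h1, h2] at h3
      change resR _ 1 = (f.fiberι η).app _ g * resR _ 1 at h3
      rw [map_one, map_one, mul_one] at h3
      have hx'η : f x' = η := hη ▸ honly ⟨x, hxi⟩ x' hm.1 hmax
      obtain ⟨w, rfl⟩ : x' ∈ Set.range (f.fiberι η) := by rw [Scheme.Hom.range_fiberι]; exact hx'η
      refine h0 ((stalkMap_fiberι_bijective hY (hη ▸ hxi) w).1 ?_)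
      have e1 : ∀ s : Γ(X, N ⟨x, hxi⟩ ⊓ N ⟨xj, hxj⟩),
          (X.presheaf.stalkSpecializes hx').hom ((X.presheaf.germ _ z hz.1).hom s) =
            (X.presheaf.germ _ ((f.fiberι η) w) hm).hom s := fun s =>
        RingHom.congr_fun (congrArg CommRingCat.Hom.hom (X.presheaf.germ_stalkSpecializes hz.1 hx')) s
      rw [map_zero, map_sub, e1, e1, map_one, map_sub, map_one, sub_eq_zero]
      refine (Scheme.Hom.germ_stalkMap_apply (f.fiberι η) _ w hm g).trans ?_
      rw [← h3, map_one]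
  refine ⟨O, σ, hO, H23.TrivBasic.isFrame_of_germwise fun x hx => ?_⟩
  obtain ⟨i, hi⟩ := Opens.mem_iSup.1 hx
  exact ⟨N i, le_iSup N i, hi, (hσ i).symm ▸ hτ i⟩

end Groth.Agent.InvDescent
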