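import Groth.Agent.InvDescent.Basic
import Groth.Agent.SchTop.Closed

/-!
# Extending multiples of the generic frame
-/

set_option autoImplicit false
set_option linter.style.haveILetI false
set_option backward.isDefEq.respectTransparency false
set_option backward.isDefEq.respectTransparency.types false
universe u

open AlgebraicGeometry CategoryTheory CategoryTheory.Limits TopologicalSpace IsLocalRing
open Groth.Agent.CDiv6 (primeOf)
open Groth.Agent.AModX Groth.Agent.InvX Groth.Agent.Div21Lib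

namespace Groth.Agent.InvDescent

variable {X Y : Scheme.{u}}

theorem exists_integral_nbhd [IsLocallyNoetherian Y] (hY : Pi1.IsNormalScheme Y) (y : Y) :
    ∃ W : Y.Opens, y ∈ W ∧ IsAffineOpen W ∧ IsIntegral W.toScheme := by
  obtain ⟨V, hV, hyV, -⟩ := exists_isAffineOpen_mem_and_subset (x := y) (U := ⊤) trivial
  haveI : IsAffine V.toScheme := hV
  haveI : IsLocallyNoetherian V.toScheme := isLocallyNoetherian_of_isOpenImmersion V.ι
  haveI : CompactSpace V.toScheme := isCompact_iff_compactSpace.1 hV.isCompact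
  haveI : IsNoetherian V.toScheme := { }
  obtain ⟨Z, hZ, hyZ⟩ := exists_mem_irreducibleComponents_subset_of_isIrreducible _
    (isIrreducible_singleton (x := (⟨y, hyV⟩ : V.toScheme)))
  have hdom : ∀ x : V.toScheme, IsDomain (V.toScheme.presheaf.stalk x) := fun x => by
    haveI := (hY (V.ι x)).1
    exact (asIso (V.ι.stalkMap x)).commRingCatIsoToRingEquiv.symm.toMulEquiv.isDomain _
  have hop := SchTop.isOpen_component_of_finite (X := V.toScheme)
    TopologicalSpace.NoetherianSpace.finite_irreducibleComponents hdom hZ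
  let W₀ : Y.Opens := V.ι ''ᵁ ⟨Z, hop⟩
  have hyW : y ∈ W₀ := ⟨⟨y, hyV⟩, hyZ rfl, rfl⟩
  obtain ⟨W, hW, hyW', hle⟩ := exists_isAffineOpen_mem_and_subset (x := y) (U := W₀) hyW
  refine ⟨W, hyW', hW, ?_⟩
  haveI : Nonempty W.toScheme := ⟨⟨y, hyW'⟩⟩
  haveI : ∀ x : W.toScheme, _root_.IsReduced (W.toScheme.presheaf.stalk x) := fun x => by
    haveI := (hY (W.ι x)).1
    haveI := (asIso (W.ι.stalkMap x)).commRingCatIsoToRingEquiv.symm.toMulEquiv.isDomain _
    infer_instance
  haveI : IsReduced W.toScheme := isReduced_of_isReduced_stalk _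
  have hirr : IsPreirreducible (W₀ : Set Y) :=
    (hZ.1.image V.ι (V.ι.continuous.continuousOn)).2
  haveI : PreirreducibleSpace W.toScheme := Subtype.preirreducibleSpace (hirr.open_subset W.2 hle)
  haveI : IrreducibleSpace W.toScheme := { toNonempty := inferInstance }
  exact isIntegral_of_irreducibleSpace_of_isReduced _

section

variable (W : Y.Opens)

theorem isDomain_sections [IsIntegral W.toScheme] : IsDomain Γ(Y, W) := by
  haveI : IsDomain Γ(W.toScheme, ⊤) := inferInstance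
  exact W.topIso.commRingCatIsoToRingEquiv.symm.toMulEquiv.isDomain _

variable {W}

theorem germ_injective (hW : IsAffineOpen W) [IsIntegral W.toScheme] {z : Y} (hz : z ∈ W) :
    Function.Injective (Y.presheaf.germ W z hz).hom := by
  haveI := isDomain_sections W
  letI := Y.presheaf.algebra_section_stalk (U := W) ⟨z, hz⟩
  haveI := hW.isLocalization_stalk ⟨z, hz⟩
  exact IsLocalization.injective (Y.presheaf.stalk z) (hW.primeIdealOf ⟨z, hz⟩).asIdeal.primeCompl_le_nonZeroDivisors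

theorem germ_ne_zero (hW : IsAffineOpen W) [IsIntegral W.toScheme] {z : Y} (hz : z ∈ W) {c : Γ(Y, W)}
    (hc : c ≠ 0) : (Y.presheaf.germ W z hz).hom c ≠ 0 :=
  fun h => hc (germ_injective hW hz (h.trans (map_zero _).symm))

theorem isMaxPt_of_forall_mem_basicOpen (hW : IsAffineOpen W) {z : Y} (hz : z ∈ W)
    (h : ∀ a : Γ(Y, W), a ≠ 0 → z ∈ Y.basicOpen a) : IsMaxPt z := by
  intro z' hz'
  have key : ∀ w (hw : w ∈ W), (∀ a : Γ(Y, W), a ≠ 0 → w ∈ Y.basicOpen a) → (hW.primeIdealOf ⟨w, hw⟩).asIdeal = ⊥ := by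
    intro w hw hb
    refine (Submodule.eq_bot_iff _).2 fun a ha => by_contra fun h0 => ?_
    have h1 := hb a h0
    rw [Scheme.mem_basicOpen (hx := hw)] at h1
    letI := Y.presheaf.algebra_section_stalk (U := W) ⟨w, hw⟩
    haveI := hW.isLocalization_stalk ⟨w, hw⟩
    exact (IsLocalization.AtPrime.isUnit_to_map_iff (Y.presheaf.stalk w) (hW.primeIdealOf ⟨w, hw⟩).asIdeal a).1 h1 ha
  have hzW : z' ∈ W := hz'.mem_open W.2 hz
  have h1 : hW.primeIdealOf ⟨z', hzW⟩ = hW.primeIdealOf ⟨z, hz⟩ := PrimeSpectrum.ext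
    ((key z' hzW fun a ha => hz'.mem_open (Y.basicOpen a).2 (h a ha)).trans (key z hz h).symm)
  have h2 := congrArg hW.fromSpec h1
  rwa [hW.fromSpec_primeIdealOf, hW.fromSpec_primeIdealOf] at h2

end

theorem isUnit_of_maximal_ne_zero [IsLocallyNoetherian Y] {z : Y} [IsDomain (Y.presheaf.stalk z)] (hz : IsMaxPt z)
    {r : Y.presheaf.stalk z} (hr : r ≠ 0) : IsUnit r := by
  by_contra hu
  have h1 : r ∈ maximalIdeal (Y.presheaf.stalk z) := hu
  rw [maximalIdeal_eq_bot_of_maximal hz] at h1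
  exact hr ((Submodule.mem_bot _).1 h1)

/-- The standing data. -/
structure Setup (f : X ⟶ Y) (L : X.Modules) where
  hY : Pi1.IsNormalScheme Y
  hL : PicF.IsInvertible L
  /-- the domain of the generic frame -/
  O : X.Opens
  /-- the generic frame -/
  σ : Γ(L, O)
  hO : ContainsGeneric f O
  hσ : IsFrame σ

variable {f : X ⟶ Y} {L : X.Modules} (S : Setup f L) {W : Y.Opens}

/-- the multiple of the frame by a function on the base extends -/
def ExtOn (d : Γ(Y, W)) {N : X.Opens} (hN : N ≤ f ⁻¹ᵁ W) (ρ : Γ(L, N)) : Prop :=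
  res L (inf_le_left : N ⊓ S.O ≤ N) ρ =
    resR ((inf_le_left : N ⊓ S.O ≤ N).trans hN) (f.app W d) • res L (inf_le_right : N ⊓ S.O ≤ S.O) S.σ

theorem ExtOn.res {d : Γ(Y, W)} {N N' : X.Opens} {hN : N ≤ f ⁻¹ᵁ W} {ρ : Γ(L, N)} (h : ExtOn S d hN ρ)
    (h' : N' ≤ N) : ExtOn S d (h'.trans hN) (AModX.res L h' ρ) := by
  have h1 := congrArg (AModX.res L (inf_le_inf_right S.O h' : N' ⊓ S.O ≤ N ⊓ S.O)) h
  rw [res_res, res_smul, res_res, resR_resR] at h1
  show AModX.res L _ (AModX.res L h' ρ) = _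
  rw [res_res]
  exact h1

/-- the domain of the multiple -/
noncomputable def dom (d : Γ(Y, W)) : X.Opens :=
  ⨆ N : {N : X.Opens // ∃ (hN : N ≤ f ⁻¹ᵁ W) (ρ : Γ(L, N)), ExtOn S d hN ρ}, N.1

theorem dom_le (d : Γ(Y, W)) : dom S d ≤ f ⁻¹ᵁ W := iSup_le fun N => N.2.1

variable [IsLocallyNoetherian X] [IsLocallyNoetherian Y] [Flat f]

theorem exists_rho (d : Γ(Y, W)) : ∃ ρ : Γ(L, dom S d), ExtOn S d (dom_le S d) ρ := by
  let I := {N : X.Opens // ∃ (hN : N ≤ f ⁻¹ᵁ W) (ρ : Γ(L, N)), ExtOn S d hN ρ}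
  choose hN ρ hρ using fun N : I => N.2
  obtain ⟨r, hr, -⟩ := existsUnique_glue (M := L) (V := dom S d) (fun N : I => N.1) (le_iSup (fun N : I => N.1))
    (fun p hp => Opens.mem_iSup.1 hp) ρ fun i j => sec_ext S.hY S.hO S.hL
      ((ExtOn.res S (hρ i) inf_le_left).trans (ExtOn.res S (hρ j) inf_le_right).symm)
  refine ⟨r, AModX.eq_of_locally _ _ fun p hp => ?_⟩
  obtain ⟨i, hi⟩ := Opens.mem_iSup.1 hp.1
  refine ⟨i.1 ⊓ S.O, inf_le_inf_right _ (le_iSup (fun N : I => N.1) i), ⟨hi, hp.2⟩, ?_⟩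
  rw [res_res, res_smul, res_res, resR_resR, ← hρ i, ← hr i, res_res]

/-- the multiple -/
noncomputable def rho (d : Γ(Y, W)) : Γ(L, dom S d) := (exists_rho S d).choose

theorem rho_spec (d : Γ(Y, W)) : ExtOn S d (dom_le S d) (rho S d) := (exists_rho S d).choose_spec

variable [IsIntegral W.toScheme] (hW : IsAffineOpen W)
include S hW

theorem regular_germ {c : Γ(Y, W)} (hc : c ≠ 0) {x : X} {y : Y} (hyW : y ∈ W) (hx : f x ⤳ y) :
    psi f x hx (Y.presheaf.germ W y hyW c) ∈ nonZeroDivisors (X.presheaf.stalk x) := by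
  have hfx : f x ∈ W := hx.mem_open W.2 hyW
  haveI := (S.hY (f x)).1
  rw [psi_eq_germ f x hx hyW c, ← psi_eq_germ f x (specializes_rfl : f x ⤳ f x) hfx c]
  exact regular_psi f x rfl (germ_ne_zero hW hfx hc)

theorem app_cancel {c : Γ(Y, W)} (hc : c ≠ 0) {N : X.Opens} (hN : N ≤ f ⁻¹ᵁ W) {r r' : Γ(X, N)}
    (h : resR hN (f.app W c) * r = resR hN (f.app W c) * r') : r = r' := by
  refine TopCat.Presheaf.section_ext X.sheaf _ _ _ fun x hx => ?_
  have h1 := congrArg (X.presheaf.germ N x hx) h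
  rw [map_mul, map_mul, germ_resR', ← psi_eq_germ f x (specializes_rfl : f x ⤳ f x) (hN hx) c] at h1
  exact (mul_cancel_left_mem_nonZeroDivisors (regular_germ S hW hc (hN hx) specializes_rfl)).1 h1

/-- some multiple extends near each point -/
theorem exists_ext {x : X} (hx : f x ∈ W) :
    ∃ (N : X.Opens) (hN : N ≤ f ⁻¹ᵁ W) (e : Γ(L, N)) (h : Γ(X, N)) (c : Γ(Y, W)), x ∈ N ∧ IsFrame e ∧ c ≠ 0 ∧
      ExtOn S c hN (h • e) := by
  haveI := isDomain_sections W
  obtain ⟨U, hxU, e, he⟩ := exists_frame S.hL x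
  obtain ⟨V, hV, hxV, hVle⟩ := exists_isAffineOpen_mem_and_subset (x := x) (U := U ⊓ f ⁻¹ᵁ W) ⟨hxU, hx⟩
  have hVW : V ≤ f ⁻¹ᵁ W := fun z hz => (hVle hz).2
  have hVU : V ≤ U := fun z hz => (hVle hz).1
  obtain ⟨g, hg⟩ := he.exists_coord ((inf_le_left : V ⊓ S.O ≤ V).trans hVU) (res L (inf_le_right : V ⊓ S.O ≤ S.O) S.σ)
  -- a function on the base whose nonvanishing locus lies in the domain
  obtain ⟨a, ha, hle⟩ : ∃ a : Γ(Y, W), a ≠ 0 ∧ X.basicOpen (resR hVW (f.app W a)) ≤ S.O := by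
    let I : Ideal Γ(X, V) :=
      ⨅ (z : X) (hz : z ∈ V) (_ : z ∉ S.O), (maximalIdeal (X.presheaf.stalk z)).comap (X.presheaf.germ V z hz).hom
    suffices h : ∃ a : Γ(Y, W), a ≠ 0 ∧ resR hVW (f.app W a) ∈ I by
      obtain ⟨a, ha, haI⟩ := h
      refine ⟨a, ha, fun z hz => ?_⟩
      by_contra hzO
      have hzV : z ∈ V := X.basicOpen_le _ hz
      simp only [I, Submodule.mem_iInf, Ideal.mem_comap] at haI
      exact haI z hzV hzO ((X.mem_basicOpen _ z hzV).1 hz)
    by_contra hno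
    push Not at hno
    obtain ⟨P, hP, hle, hdisj⟩ := Ideal.exists_le_prime_disjoint I
      ((nonZeroDivisors Γ(Y, W)).map ((resR hVW).comp (f.app W).hom)) (by
        rw [Set.disjoint_left]
        rintro r hr ⟨a, ha, rfl⟩
        exact hno a (nonZeroDivisors.ne_zero ha) hr)
    haveI := hV.isOpenImmersion_fromSpec
    let z : X := hV.fromSpec ⟨P, hP⟩
    have hz : z ∈ V := by
      rw [← SetLike.mem_coe, ← hV.range_fromSpec]
      exact Set.mem_range_self _
    have hzP : hV.primeIdealOf ⟨z, hz⟩ = ⟨P, hP⟩ :=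
      hV.fromSpec.isOpenEmbedding.injective (hV.fromSpec_primeIdealOf _)
    have hzO : z ∈ S.O := by
      refine S.hO z (isMaxPt_of_forall_mem_basicOpen hW (hVW hz) fun a ha => ?_)
      have : z ∈ X.basicOpen (resR hVW (f.app W a)) := by
        letI := X.presheaf.algebra_section_stalk (U := V) ⟨z, hz⟩
        haveI := hV.isLocalization_stalk ⟨z, hz⟩
        refine (X.mem_basicOpen _ z hz).2
          ((IsLocalization.AtPrime.isUnit_to_map_iff (X.presheaf.stalk z) (hV.primeIdealOf ⟨z, hz⟩).asIdeal _).2 ?_)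
        rw [hzP]
        exact fun h => Set.disjoint_left.1 hdisj h ⟨a, mem_nonZeroDivisors_of_ne_zero ha, rfl⟩
      have h2 : z ∈ X.basicOpen (f.app W a) := by
        have h3 := this
        rw [show X.basicOpen (resR hVW (f.app W a)) = V ⊓ X.basicOpen (f.app W a) from X.basicOpen_res _ _] at h3
        exact h3.2
      rw [← Scheme.preimage_basicOpen] at h2
      exact h2
    -- the prime contains the ideal of the complement, which is closed
    obtain ⟨b, hbO, hzb⟩ := hV.exists_basicOpen_le (V := S.O) ⟨z, hzO⟩ hz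
    have hbI : b ∈ I := by
      simp only [I, Submodule.mem_iInf, Ideal.mem_comap]
      exact fun w hw hwO => fun hu => hwO (hbO ((X.mem_basicOpen b w hw).2 hu))
    letI := X.presheaf.algebra_section_stalk (U := V) ⟨z, hz⟩
    haveI := hV.isLocalization_stalk ⟨z, hz⟩
    have h4 := (IsLocalization.AtPrime.isUnit_to_map_iff (X.presheaf.stalk z) (hV.primeIdealOf ⟨z, hz⟩).asIdeal b).1
      ((X.mem_basicOpen b z hz).1 hzb)
    rw [hzP] at h4
    exact h4 (hle hbI)
  let A := resR hVW (f.app W a)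
  have hD : X.basicOpen A ≤ V ⊓ S.O := le_inf (X.basicOpen_le A) hle
  letI := (X.presheaf.map (homOfLE (X.basicOpen_le A)).op).hom.toAlgebra
  haveI : IsLocalization.Away A Γ(X, X.basicOpen A) := hV.isLocalization_basicOpen A
  obtain ⟨⟨b, ⟨_, n, rfl⟩⟩, hb⟩ := IsLocalization.surj (Submonoid.powers A) (resR hD g)
  refine ⟨V, hVW, res L hVU e, b, a ^ n, hxV, he.res hVU, pow_ne_zero n ha, ?_⟩
  show res L _ (b • res L hVU e) = _
  rw [res_smul, res_res, hg, ← mul_smul]
  congr 1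
  -- compare after restricting to the fibres over maximal points
  change resR (inf_le_left : V ⊓ S.O ≤ V) b = resR _ (f.app W (a ^ n)) * g
  refine TopCat.Presheaf.section_ext X.sheaf _ _ _ fun z hz => ?_
  by_contra hne
  obtain ⟨z', hz', hmax, h0⟩ := exists_maximal_spec_ne_zero f S.hY (sub_ne_zero.2 hne)
  have hz'm : z' ∈ V ⊓ S.O := hz'.mem_open (V ⊓ S.O).2 hz
  have hfz : f z' ∈ W := hVW hz'm.1
  have hz'D : z' ∈ X.basicOpen A := by
    rw [show X.basicOpen A = V ⊓ X.basicOpen (f.app W a) from X.basicOpen_res _ _, ← Scheme.preimage_basicOpen]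
    refine ⟨hz'm.1, show f z' ∈ Y.basicOpen a from ?_⟩
    haveI := (S.hY (f z')).1
    rw [Scheme.mem_basicOpen (hx := hfz)]
    exact isUnit_of_maximal_ne_zero hmax (germ_ne_zero hW hfz ha)
  have hb' := congrArg (X.presheaf.germ (X.basicOpen A) z' hz'D) hb
  rw [map_mul, RingHom.algebraMap_toAlgebra] at hb'
  change (X.presheaf.germ _ z' hz'D).hom (resR hD g) * (X.presheaf.germ _ z' hz'D).hom (resR (X.basicOpen_le A) (A ^ n)) =
    (X.presheaf.germ _ z' hz'D).hom (resR (X.basicOpen_le A) b) at hb'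
  rw [germ_resR', germ_resR', germ_resR', map_pow] at hb'
  refine h0 ?_
  rw [map_sub, sub_eq_zero]
  refine (RingHom.congr_fun (congrArg CommRingCat.Hom.hom (X.presheaf.germ_stalkSpecializes hz hz')) _).trans
    (Eq.trans ?_ (RingHom.congr_fun (congrArg CommRingCat.Hom.hom (X.presheaf.germ_stalkSpecializes hz hz')) _).symm)
  show (X.presheaf.germ _ z' hz'm).hom _ = (X.presheaf.germ _ z' hz'm).hom _
  rw [map_mul, germ_resR', germ_resR', ← hb', germ_resR', map_pow, map_pow, mul_comm]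

end Groth.Agent.InvDescent
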