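import Groth.Agent.InvDescent.Extend

/-!
# The family of ideals of an extended multiple of the generic frame
-/

set_option autoImplicit false
set_option linter.style.haveILetI false
set_option backward.isDefEq.respectTransparency false
set_option backward.isDefEq.respectTransparency.types false
universe u

open AlgebraicGeometry CategoryTheory CategoryTheory.Limits TopologicalSpace IsLocalRing
open Groth.Agent.CDiv6 (primeOf)
open Groth.Agent.AModX Groth.Agent.InvX Groth.Agent.Div21Lib

namespace Groth.Agent.InvDescent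

variable {X Y : Scheme.{u}} {f : X ⟶ Y} {L : X.Modules}

theorem stalkSpecializes_germ {U : X.Opens} {x' x : X} (h : x' ⤳ x) (hx : x ∈ U) (s : Γ(X, U)) :
    (X.presheaf.stalkSpecializes h).hom ((X.presheaf.germ U x hx).hom s) =
      (X.presheaf.germ U x' (h.mem_open U.2 hx)).hom s :=
  RingHom.congr_fun (congrArg CommRingCat.Hom.hom (X.presheaf.germ_stalkSpecializes hx h)) s

/-- two frames differ by units at each point -/
theorem isUnit_germ_of_frames {U : X.Opens} {e e' : Γ(L, U)} (he : IsFrame e) (he' : IsFrame e') {g : Γ(X, U)}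
    (hg : e' = g • e) : IsUnit g := by
  obtain ⟨k, hk⟩ := he'.exists_coord le_rfl e
  rw [res_self, hg, ← mul_smul] at hk
  refine IsUnit.of_mul_eq_one k (he.coord_unique le_rfl ?_)
  rw [res_self, mul_comm, ← hk, one_smul]

/-- at a point with an uniformiser, an associated prime of a quotient by a power is one of the quotient by it -/
theorem exists_witness_of_pow {B : Type u} [CommRing B] [IsLocalRing B] {T : B} (hT : T ∈ nonZeroDivisors B) :
    ∀ (n : ℕ) {w : B}, w ∉ Ideal.span {T ^ n} → (∀ r ∈ maximalIdeal B, r * w ∈ Ideal.span {T ^ n}) →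
      ∃ u : B, u ∉ Ideal.span {T} ∧ ∀ r ∈ maximalIdeal B, r * u ∈ Ideal.span {T}
  | 0, w, hw, _ => absurd (by simp) hw
  | n + 1, w, hw, hmw => by
    by_cases h : w ∈ Ideal.span {T}
    · obtain ⟨v, rfl⟩ := Ideal.mem_span_singleton'.1 h
      refine exists_witness_of_pow hT n (w := v) (fun hv => hw ?_) fun r hr => ?_
      · obtain ⟨a, ha⟩ := Ideal.mem_span_singleton'.1 hv
        exact Ideal.mem_span_singleton'.2 ⟨a, by rw [← ha, pow_succ]; ring⟩
      · obtain ⟨a, ha⟩ := Ideal.mem_span_singleton'.1 (hmw r hr)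
        refine Ideal.mem_span_singleton'.2 ⟨a, (mul_cancel_right_mem_nonZeroDivisors hT).1 ?_⟩
        rw [pow_succ] at ha
        linear_combination ha
    · refine ⟨w, h, fun r hr => Ideal.span_singleton_le_span_singleton.2 ?_ (hmw r hr)⟩
      exact dvd_pow_self T n.succ_ne_zero

variable (S : Setup f L) [IsLocallyNoetherian X] [IsLocallyNoetherian Y] [Flat f] {W : Y.Opens}
  [IsIntegral W.toScheme] (hW : IsAffineOpen W)
include S hW

/-- comparison of two extensions -/
theorem coord_eq {d c : Γ(Y, W)} {N : X.Opens} (hN : N ≤ f ⁻¹ᵁ W) {e : Γ(L, N)} (he : IsFrame e) {h k : Γ(X, N)}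
    (hh : ExtOn S d hN (h • e)) (hk : ExtOn S c hN (k • e)) :
    resR hN (f.app W c) * h = resR hN (f.app W d) * k := by
  refine eq_of_res_eq S.hY S.hO (he.coord_unique inf_le_left ?_)
  change res L _ (h • e) = _ at hh
  change res L _ (k • e) = _ at hk
  rw [res_smul] at hh hk
  rw [map_mul, map_mul, mul_smul, mul_smul, hh, hk, resR_resR, resR_resR, ← mul_smul, ← mul_smul, mul_comm]

variable (hfib : ∀ y : Y, ringKrullDim (Y.presheaf.stalk y) = 1 → IsIntegral (f.fiber y))
include hfib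

/-- the multiple extends above all generisations of the image of a point where it extends -/
theorem mem_dom {d : Γ(Y, W)} {x₀ : X} (hx₀ : x₀ ∈ dom S d) {x : X} (hx : f x ⤳ f x₀) : x ∈ dom S d := by
  haveI := isDomain_sections W
  have hfx : f x ∈ W := hx.mem_open W.2 (dom_le S d hx₀)
  obtain ⟨N, hN, e, h, c, hxN, he, hc, hext⟩ := exists_ext S hW hfx
  let C := resR hN (f.app W c)
  let v := resR hN (f.app W d) * h
  have hC : ∀ z (hz : z ∈ N), (X.presheaf.germ N z hz).hom C =
      psi f z (specializes_rfl : f z ⤳ f z) (Y.presheaf.germ W (f z) (hN hz) c) := fun z hz => by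
    rw [psi_eq_germ f z (specializes_rfl : f z ⤳ f z) (hN hz) c]
    exact germ_resR' hN hz _
  have hCreg : ∀ z (hz : z ∈ N), (X.presheaf.germ N z hz).hom C ∈ nonZeroDivisors (X.presheaf.stalk z) :=
    fun z hz => by rw [hC z hz]; exact regular_germ S hW hc (hN hz) specializes_rfl
  suffices hv : (X.presheaf.germ N x hxN).hom v ∈ Ideal.span {(X.presheaf.germ N x hxN).hom C} by
    obtain ⟨a, ha⟩ := Ideal.mem_span_singleton'.1 hv
    obtain ⟨M, hxM, a, rfl⟩ := X.presheaf.germ_exist a
    obtain ⟨M', hxM', i₁, i₂, heq⟩ := X.presheaf.germ_eq x (show x ∈ M ⊓ N from ⟨hxM, hxN⟩) hxN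
      (resR inf_le_left a * resR inf_le_right C) v (by
        rw [map_mul, germ_resR', germ_resR']; exact ha)
    have hM'N : M' ≤ N := i₂.le
    have heq' : resR i₁.le (resR inf_le_left a * resR inf_le_right C) = resR i₂.le v := heq
    rw [map_mul, resR_resR, resR_resR] at heq'
    have hE : ExtOn S d (hM'N.trans hN) (resR (i₁.le.trans inf_le_left) a • res L hM'N e) := by
      obtain ⟨k, hk⟩ := (he.res hM'N).exists_coord inf_le_left
        (resR ((inf_le_left : M' ⊓ S.O ≤ M').trans (hM'N.trans hN)) (f.app W d) • res L (inf_le_right : M' ⊓ S.O ≤ S.O) S.σ)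
      show res L _ (resR _ a • res L hM'N e) = _
      rw [res_smul, hk]
      congr 1
      refine app_cancel S hW hc ((inf_le_left : M' ⊓ S.O ≤ M').trans (hM'N.trans hN)) ?_
      have h1 := ExtOn.res S hext hM'N
      change res L _ (res L hM'N (h • e)) = _ at h1
      rw [res_res, res_smul] at h1
      refine (he.res hM'N).coord_unique inf_le_left ?_
      rw [mul_smul (resR _ (f.app W c)) k, ← hk]
      conv_rhs => rw [smul_comm, ← h1, ← mul_smul]
      rw [res_res]
      congr 1
      have h2 := congrArg (resR (inf_le_left : M' ⊓ S.O ≤ M')) heq'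
      simp only [map_mul, resR_resR, C, v] at h2 ⊢
      rw [mul_comm] at h2
      exact h2
    exact le_iSup (fun N : {N : X.Opens // ∃ (hN : N ≤ f ⁻¹ᵁ W) (ρ : Γ(L, N)), ExtOn S d hN ρ} => N.1)
      ⟨M', _, _, hE⟩ hxM'
  by_contra hv
  set gC := (X.presheaf.germ N x hxN).hom C with hgC
  set gv := (X.presheaf.germ N x hxN).hom v with hgv
  obtain ⟨P, hP, hle⟩ := exists_le_isAssociatedPrime_of_isNoetherianRing (X.presheaf.stalk x)
    (Ideal.Quotient.mk (Ideal.span {gC}) gv) (fun h => hv (Ideal.Quotient.eq_zero_iff_mem.1 h))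
  haveI := hP.isPrime
  obtain ⟨-, w, hw⟩ := Alg6.mem_ass_iff.1 hP
  obtain ⟨w, rfl⟩ := Ideal.Quotient.mk_surjective w
  have hw' : ∀ r, r ∈ P ↔ r * w ∈ Ideal.span {gC} := fun r => by
    rw [hw, Algebra.smul_def, Ideal.Quotient.algebraMap_eq, ← map_mul, Ideal.Quotient.eq_zero_iff_mem]
  obtain ⟨z, hz, hzP⟩ := H23.StalkPrimes.exists_point P
  letI := (X.presheaf.stalkSpecializes hz).hom.toAlgebra
  haveI : IsLocalization.AtPrime (X.presheaf.stalk z) (primeOf hz).asIdeal :=
    H23.StalkPrimes.isLocalization_primeOf hz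
  set sp := algebraMap (X.presheaf.stalk x) (X.presheaf.stalk z) with hsp
  have hmem : ∀ b : X.presheaf.stalk x, sp b ∈ Ideal.span {sp gC} ↔ ∃ s ∉ P, s * b ∈ Ideal.span {gC} := fun b => by
    rw [← Set.image_singleton, ← Ideal.map_span, hsp,
      IsLocalization.algebraMap_mem_map_algebraMap_iff (primeOf hz).asIdeal.primeCompl]
    rw [← hzP]
    exact ⟨fun ⟨s, hs, h⟩ => ⟨s, hs, h⟩, fun ⟨s, hs, h⟩ => ⟨s, hs, h⟩⟩
  have hvz : sp gv ∉ Ideal.span {sp gC} := fun hh => by
    obtain ⟨s, hs, hsv⟩ := (hmem gv).1 hh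
    refine hs (hle (Submodule.mem_colon_singleton.2 ?_))
    rw [Submodule.mem_bot, Algebra.smul_def, Ideal.Quotient.algebraMap_eq, ← map_mul, Ideal.Quotient.eq_zero_iff_mem]
    exact hsv
  have hwz : sp w ∉ Ideal.span {sp gC} := fun hh => by
    obtain ⟨s, hs, hsw⟩ := (hmem w).1 hh
    exact hs ((hw' s).2 hsw)
  have hmwz : ∀ r ∈ maximalIdeal (X.presheaf.stalk z), r * sp w ∈ Ideal.span {sp gC} := by
    intro r hr
    obtain ⟨a, s, rfl⟩ := IsLocalization.exists_mk'_eq (primeOf hz).asIdeal.primeCompl r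
    rw [IsLocalization.AtPrime.mk'_mem_maximal_iff (X.presheaf.stalk z) (primeOf hz).asIdeal] at hr
    have h1 : sp a * sp w ∈ Ideal.span {sp gC} := by
      rw [← map_mul, hmem]
      exact ⟨1, fun h => hP.isPrime.ne_top ((Ideal.eq_top_iff_one _).2 h), by rw [one_mul]; exact (hw' a).1 (hzP ▸ hr)⟩
    rw [← Ideal.mul_unit_mem_iff_mem _ (IsLocalization.map_units (X.presheaf.stalk z) s), mul_right_comm,
      IsLocalization.mk'_spec]
    exact h1
  have hzN : z ∈ N := hz.mem_open N.2 hxN
  have hspC : sp gC = (X.presheaf.germ N z hzN).hom C := stalkSpecializes_germ hz hxN C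
  have hspv : sp gv = (X.presheaf.germ N z hzN).hom v := stalkSpecializes_germ hz hxN v
  have hp : f z ⤳ f x₀ := (hz.map f.continuous).trans hx
  set p := f z with hp'
  haveI := (S.hY p).1
  haveI := (S.hY p).2
  set a := (Y.presheaf.germ W p (hN hzN)).hom c with ha
  have ha0 : a ≠ 0 := germ_ne_zero hW (hN hzN) hc
  have hCz : sp gC = psi f z (specializes_rfl : f z ⤳ f z) a := hspC.trans (hC z hzN)
  have hau : a ∈ maximalIdeal (Y.presheaf.stalk p) := fun hu => hwz (by
    rw [hCz, (Ideal.span_singleton_eq_top.2 (hu.map _) : Ideal.span {psi f z (specializes_rfl : f z ⤳ f z) a} = ⊤)]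
    trivial)
  by_cases hd : LocCoh.depth (Y.presheaf.stalk p) (Y.presheaf.stalk p) ≤ 1
  swap
  · obtain ⟨h1, -⟩ := flat_psi f z (y := p) rfl
    letI := (psi f z (specializes_rfl : f z ⤳ f z)).toAlgebra
    haveI : Module.Flat (Y.presheaf.stalk p) (X.presheaf.stalk z) := h1
    refine hwz (mem_of_maximal_mul_mem (A := Y.presheaf.stalk p) (Order.add_one_le_of_lt (not_le.1 hd))
      (hspC.symm ▸ hCreg z hzN) fun r hr => hmwz _ ?_)
    intro hu
    rw [RingHom.algebraMap_toAlgebra, psi_refl] at hu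
    exact hr (isUnit_of_map_unit _ _ hu)
  -- the image has a discrete valuation ring
  haveI : IsDiscreteValuationRing (Y.presheaf.stalk p) := CDiv6.isDVR_of_depth_eq_one _ (le_antisymm hd (by
    refine Alg6.one_le_depth_iff.2 fun hass => ha0 ?_
    obtain ⟨-, u, hu⟩ := Alg6.mem_ass_iff.1 hass
    have hu0 : u ≠ 0 := fun h => (maximalIdeal.isMaximal (Y.presheaf.stalk p)).ne_top
      ((Ideal.eq_top_iff_one _).2 ((hu 1).2 (by rw [h, smul_zero])))
    exact (mul_eq_zero.1 (((smul_eq_mul a u).symm).trans ((hu a).1 hau))).resolve_right hu0))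
  haveI := hfib p (IsPrincipalIdealRing.ringKrullDim_eq_one _ (IsDiscreteValuationRing.not_isField _))
  obtain ⟨t, ht⟩ := IsDiscreteValuationRing.exists_irreducible (Y.presheaf.stalk p)
  obtain ⟨n, hn⟩ := IsDiscreteValuationRing.associated_pow_irreducible ha0 ht
  set T := psi f z (specializes_rfl : f z ⤳ f z) t with hT
  have hCT : Ideal.span {sp gC} = Ideal.span {T ^ n} := by
    rw [hCz, hT, ← map_pow]
    obtain ⟨v, hv⟩ := hn
    rw [← hv, map_mul, Ideal.span_singleton_mul_right_unit (v.isUnit.map _)]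
  obtain ⟨u, hu, hmu⟩ := exists_witness_of_pow (T := T) (regular_psi f z rfl ht.ne_zero) n
    (fun h' => hwz (hCT ▸ h')) fun r hr => hCT ▸ hmwz r hr
  have hassT : maximalIdeal (X.presheaf.stalk z) ∈
      associatedPrimes (X.presheaf.stalk z) (X.presheaf.stalk z ⧸ Ideal.span {T}) := by
    refine Alg6.mem_ass_iff.2 ⟨inferInstance, Ideal.Quotient.mk _ u, fun r => ?_⟩
    rw [Algebra.smul_def, Ideal.Quotient.algebraMap_eq, ← map_mul, Ideal.Quotient.eq_zero_iff_mem]
    refine ⟨hmu r, fun hr => ?_⟩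
    by_contra hr'
    obtain ⟨v, rfl⟩ : IsUnit r := by rwa [IsLocalRing.mem_maximalIdeal, mem_nonunits_iff, not_not] at hr'
    exact hu ((Ideal.unit_mul_mem_iff_mem _ v.isUnit).1 hr)
  obtain ⟨w', hw'z, hwP, hassw⟩ := exists_associated_fibre_point f (t := t)
    ((IsDiscreteValuationRing.irreducible_iff_uniformizer t).1 ht) (x := z) rfl hassT
  have hwz' : f.fiberι p w' = z := H23.StalkPrimes.primeOf_inj hw'z specializes_rfl (hwP.trans (by
    refine Ideal.ext fun r => ?_
    rw [CDiv6.mem_primeOf, IsLocalRing.mem_maximalIdeal, mem_nonunits_iff]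
    simp [TopCat.Presheaf.stalkSpecializes_refl]))
  obtain ⟨z₀, hz₀, hz₀p⟩ := exists_lift f x₀ hp
  obtain ⟨w₀, rfl⟩ : z₀ ∈ Set.range (f.fiberι p) := by rw [Scheme.Hom.range_fiberι]; exact hz₀p
  have hgen := eq_of_isAssociated_of_isIntegral hassw ((genericPoint_spec (f.fiber p)).specializes (y := w') trivial)
  have hzdom : z ∈ dom S d := by
    refine Specializes.mem_open (Specializes.trans ?_ hz₀) (dom S d).2 hx₀
    rw [← hwz', ← hgen]
    exact ((genericPoint_spec (f.fiber p)).specializes (y := w₀) trivial).map (f.fiberι p).continuous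
  -- at the generic point of the fibre the multiple extends
  let N' := N ⊓ dom S d
  have hN'W : N' ≤ f ⁻¹ᵁ W := inf_le_left.trans hN
  obtain ⟨h', hh'⟩ := (he.res (inf_le_left : N' ≤ N)).exists_coord le_rfl (res L (inf_le_right : N' ≤ dom S d) (rho S d))
  rw [res_self] at hh'
  have e1 : ExtOn S d hN'W (h' • res L (inf_le_left : N' ≤ N) e) := by
    rw [← hh']; exact ExtOn.res S (rho_spec S d) inf_le_right
  have e2 : ExtOn S c hN'W (resR (inf_le_left : N' ≤ N) h • res L (inf_le_left : N' ≤ N) e) := by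
    rw [← res_smul]; exact ExtOn.res S hext inf_le_left
  have h3 := congrArg (X.presheaf.germ N' z ⟨hzN, hzdom⟩) (coord_eq S hW hN'W (he.res _) e1 e2)
  rw [map_mul, map_mul, germ_resR', germ_resR', germ_resR'] at h3
  refine hvz (Ideal.mem_span_singleton'.2 ⟨(X.presheaf.germ N' z ⟨hzN, hzdom⟩).hom h', ?_⟩)
  rw [hspC, hspv, map_mul, germ_resR', germ_resR', mul_comm]
  exact h3

omit hfib

/-- the family of ideals -/
noncomputable def famQ (_S : Setup f L) (_hW : IsAffineOpen W) (d : Γ(Y, W)) (x : X) : Ideal (X.presheaf.stalk x) :=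
  open Classical in
  if hx : x ∈ dom _S d then
    letI U := (exists_frame _S.hL x).choose
    letI hxU := (exists_frame _S.hL x).choose_spec.choose
    letI he := (exists_frame _S.hL x).choose_spec.choose_spec.choose_spec
    Ideal.span {(X.presheaf.germ (U ⊓ dom _S d) x ⟨hxU, hx⟩).hom
      (he.exists_coord inf_le_left (res L (inf_le_right : U ⊓ dom _S d ≤ dom _S d) (rho _S d))).choose}
  else ⊤

theorem famQ_eq {d : Γ(Y, W)} {N : X.Opens} (hN : N ≤ dom S d) {e : Γ(L, N)} (he : IsFrame e) {h : Γ(X, N)}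
    (hh : res L hN (rho S d) = h • e) {x : X} (hx : x ∈ N) :
    famQ S hW d x = Ideal.span {(X.presheaf.germ N x hx).hom h} := by
  rw [famQ, dif_pos (hN hx)]
  set U := (exists_frame S.hL x).choose
  set hxU := (exists_frame S.hL x).choose_spec.choose
  set e₀ := (exists_frame S.hL x).choose_spec.choose_spec.choose
  set he₀ := (exists_frame S.hL x).choose_spec.choose_spec.choose_spec
  set hco := he₀.exists_coord inf_le_left (res L (inf_le_right : U ⊓ dom S d ≤ dom S d) (rho S d))
  have hk := hco.choose_spec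
  let M := (U ⊓ dom S d) ⊓ N
  obtain ⟨g, hg⟩ := (he.res (inf_le_right : M ≤ N)).exists_coord le_rfl
    (res L ((inf_le_left : M ≤ U ⊓ dom S d).trans inf_le_left) e₀)
  rw [res_self] at hg
  have hgu := isUnit_germ_of_frames (he.res (inf_le_right : M ≤ N)) (he₀.res _) hg
  have h1 := congrArg (res L (inf_le_left : M ≤ U ⊓ dom S d)) hk
  have h2 := congrArg (res L (inf_le_right : M ≤ N)) hh
  rw [res_res, res_smul, res_res, hg, ← mul_smul] at h1
  rw [res_res, res_smul, h1] at h2
  have h3 : resR (inf_le_left : M ≤ U ⊓ dom S d) hco.choose * g = resR (inf_le_right : M ≤ N) h :=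
    he.coord_unique inf_le_right h2
  have hxM : x ∈ M := ⟨⟨hxU, hN hx⟩, hx⟩
  have h4 := congrArg (X.presheaf.germ M x hxM) h3
  rw [map_mul, germ_resR', germ_resR'] at h4
  rw [← h4, Ideal.span_singleton_mul_right_unit (hgu.map (X.presheaf.germ M x hxM).hom)]

variable {d : Γ(Y, W)} (hd : d ≠ 0)
include hd

/-- coordinates of the multiple are regular -/
theorem regular_coord {N : X.Opens} (hN : N ≤ dom S d) {e : Γ(L, N)} (he : IsFrame e) {h : Γ(X, N)}
    (hh : res L hN (rho S d) = h • e) {x : X} (hx : x ∈ N) :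
    (X.presheaf.germ N x hx).hom h ∈ nonZeroDivisors (X.presheaf.stalk x) := by
  rw [mem_nonZeroDivisors_iff_right]
  intro r hr
  by_contra hne
  obtain ⟨x', hx', hmax, h0⟩ := exists_maximal_spec_ne_zero f S.hY hne
  refine h0 ?_
  let M := N ⊓ S.O
  have hxM : x' ∈ M := ⟨hx'.mem_open N.2 hx, S.hO x' hmax⟩
  obtain ⟨g, hg⟩ := (he.res (inf_le_left : M ≤ N)).exists_coord le_rfl (res L (inf_le_right : M ≤ S.O) S.σ)
  rw [res_self] at hg
  have hgu := isUnit_germ_of_frames (he.res (inf_le_left : M ≤ N)) (S.hσ.res _) hg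
  have h1 := ExtOn.res S (rho_spec S d) hN
  rw [hh] at h1
  change res L _ (h • e) = _ at h1
  rw [res_smul, hg, ← mul_smul] at h1
  have h2 := congrArg (X.presheaf.germ M x' hxM) (he.coord_unique inf_le_left h1)
  rw [map_mul, germ_resR', germ_resR', ← psi_eq_germ f x' (specializes_rfl : f x' ⤳ f x') (dom_le S d (hN hxM.1)) d] at h2
  have hreg : (X.presheaf.germ N x' hxM.1).hom h ∈ nonZeroDivisors (X.presheaf.stalk x') := h2 ▸
    mul_mem (regular_germ S hW hd (dom_le S d (hN hxM.1)) specializes_rfl) (hgu.map _).mem_nonZeroDivisors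
  refine mem_nonZeroDivisors_iff_right.1 hreg _ ?_
  rw [← stalkSpecializes_germ hx' hx h, ← map_mul, hr, map_zero]

theorem famQ_eq_top {x : X} (hx : x ∈ dom S d) (hmax : IsMaxPt (f x)) : famQ S hW d x = ⊤ := by
  let M := dom S d ⊓ S.O
  have hxM : x ∈ M := ⟨hx, S.hO x hmax⟩
  have h1 := rho_spec S d
  change res L (inf_le_left : M ≤ dom S d) (rho S d) = _ at h1
  rw [famQ_eq S hW inf_le_left (S.hσ.res (inf_le_right : M ≤ S.O)) h1 hxM, Ideal.span_singleton_eq_top,
    germ_resR', ← psi_eq_germ f x (specializes_rfl : f x ⤳ f x) (dom_le S d hx) d]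
  haveI := (S.hY (f x)).1
  exact (isUnit_of_maximal_ne_zero hmax (germ_ne_zero hW _ hd)).map _

include hfib in
theorem isFam {x₀ : X} (hx₀ : x₀ ∈ dom S d) : IsFam f (famQ S hW d) (f x₀) := by
  have key : ∀ x : X, f x ⤳ f x₀ → ∃ (N : X.Opens) (hN : N ≤ dom S d) (e : Γ(L, N)) (h : Γ(X, N)),
      x ∈ N ∧ IsFrame e ∧ res L hN (rho S d) = h • e := by
    intro x hx
    obtain ⟨U, hxU, e, he⟩ := exists_frame S.hL x
    obtain ⟨h, hh⟩ := (he.res (inf_le_left : U ⊓ dom S d ≤ U)).exists_coord le_rfl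
      (res L (inf_le_right : U ⊓ dom S d ≤ dom S d) (rho S d))
    rw [res_self] at hh
    exact ⟨_, inf_le_right, _, h, ⟨hxU, mem_dom S hW hfib hx₀ hx⟩, he.res _, hh⟩
  constructor
  · intro x hx
    obtain ⟨N, hN, e, h, hxN, he, hh⟩ := key x hx
    exact ⟨_, regular_coord S hW hd hN he hh hxN, famQ_eq S hW hN he hh hxN⟩
  · intro x' x hx' hx
    obtain ⟨N, hN, e, h, hxN, he, hh⟩ := key x hx
    rw [famQ_eq S hW hN he hh hxN, famQ_eq S hW hN he hh (hx'.mem_open N.2 hxN), Ideal.map_span,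
      Set.image_singleton, stalkSpecializes_germ]

end Groth.Agent.InvDescent
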