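import Groth.Agent.InvDescent.Fam
import Groth.Agent.H23.CocycleMod
import Groth.Agent.TorsPic.Iso

/-!
# Descent of invertible modules trivial on the fibres over maximal points
-/

set_option autoImplicit false
set_option linter.style.haveILetI false
set_option backward.isDefEq.respectTransparency false
set_option backward.isDefEq.respectTransparency.types false
universe u

open AlgebraicGeometry CategoryTheory CategoryTheory.Limits TopologicalSpace IsLocalRing
open Groth.Agent.CDiv6 (primeOf)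
open Groth.Agent.AModX Groth.Agent.InvX Groth.Agent.Div21Lib

namespace Groth.Agent.InvDescent

variable {X Y : Scheme.{u}} {f : X ⟶ Y} {L : X.Modules}

theorem app_resR' {V W : Y.Opens} (h : W ≤ V) (a : Γ(Y, V)) :
    f.app W (resR h a) = resR (f.preimage_mono h) (f.app V a) :=
  congrArg (fun k => k.hom a) (f.naturality (homOfLE h).op)

variable [IsLocallyNoetherian X] [IsLocallyNoetherian Y] [Flat f]

theorem app_injective [Surjective f] {W : Y.Opens} : Function.Injective (f.app W).hom := by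
  intro a b h
  refine TopCat.Presheaf.section_ext Y.sheaf _ _ _ fun y hy => ?_
  show (Y.presheaf.germ W y hy).hom a = (Y.presheaf.germ W y hy).hom b
  obtain ⟨x, rfl⟩ := f.surjective y
  have h1 := congrArg (X.presheaf.germ (f ⁻¹ᵁ W) x hy) h
  rw [← psi_eq_germ f x (specializes_rfl : f x ⤳ f x) hy a, ← psi_eq_germ f x (specializes_rfl : f x ⤳ f x) hy b] at h1
  have h2 := comap_map_psi f x rfl (⊥ : Ideal (Y.presheaf.stalk (f x)))
  rw [Ideal.map_bot] at h2
  exact sub_eq_zero.1 ((Submodule.mem_bot _).1 (h2.le (by rw [Ideal.mem_comap, map_sub, h1, sub_self]; exact zero_mem _)))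

variable (S : Setup f L)

/-- The data near a point of the base. -/
structure Chart where
  W : Y.Opens
  a : Γ(Y, W)
  d : Γ(Y, W)
  τ : Γ(L, f ⁻¹ᵁ W)
  ha : ∀ x (hx : x ∈ f ⁻¹ᵁ W), (X.presheaf.germ (f ⁻¹ᵁ W) x hx).hom (f.app W a) ∈ nonZeroDivisors _
  hd : ∀ x (hx : x ∈ f ⁻¹ᵁ W), (X.presheaf.germ (f ⁻¹ᵁ W) x hx).hom (f.app W d) ∈ nonZeroDivisors _
  hτ : IsFrame τ
  eq : res L (inf_le_left : f ⁻¹ᵁ W ⊓ S.O ≤ f ⁻¹ᵁ W) (f.app W a • τ) =
    resR (inf_le_left : f ⁻¹ᵁ W ⊓ S.O ≤ f ⁻¹ᵁ W) (f.app W d) • res L (inf_le_right : f ⁻¹ᵁ W ⊓ S.O ≤ S.O) S.σ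

theorem smul_cancel {W : X.Opens} {c : Γ(X, W)}
    (hc : ∀ x (hx : x ∈ W), (X.presheaf.germ W x hx).hom c ∈ nonZeroDivisors _) {r r' : Γ(X, W)}
    (h : c * r = c * r') : r = r' := by
  refine TopCat.Presheaf.section_ext X.sheaf _ _ _ fun x hx => ?_
  have h1 := congrArg (X.presheaf.germ W x hx) h
  rw [map_mul, map_mul] at h1
  exact (mul_cancel_left_mem_nonZeroDivisors (hc x hx)).1 h1

variable (hfib : ∀ y : Y, ringKrullDim (Y.presheaf.stalk y) = 1 → IsIntegral (f.fiber y))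
include hfib

theorem exists_chart [Surjective f] (hquot : Topology.IsQuotientMap f) (y : Y) :
    ∃ c : Chart S, y ∈ c.W := by
  obtain ⟨W, hyW, hW, hint⟩ := exists_integral_nbhd S.hY y
  haveI := hint
  haveI := isDomain_sections W
  obtain ⟨x₀, rfl⟩ := f.surjective y
  obtain ⟨N₀, hN₀, e₀, h₀, d, hxN₀, he₀, hd, hext₀⟩ := exists_ext S hW hyW
  have hx₀ : x₀ ∈ dom S d :=
    le_iSup (fun N : {N : X.Opens // ∃ (hN : N ≤ f ⁻¹ᵁ W) (ρ : Γ(L, N)), ExtOn S d hN ρ} => N.1)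
      ⟨N₀, hN₀, _, hext₀⟩ hxN₀
  have hgood : ∀ x ∈ dom S d, GoodQ f (famQ S hW d) (f x) := fun x hx =>
    good_normalQ S.hY (isFam S hW hfib hd hx)
      (fun x' hx' hmax => famQ_eq_top S hW hd (mem_dom S hW hfib hx hx') hmax) hfib
  obtain ⟨a, -, ha⟩ := hgood x₀ hx₀
  obtain ⟨W₁, hyW₁, a, rfl⟩ := Y.presheaf.germ_exist a
  let W' := W₁ ⊓ W
  have hyW' : f x₀ ∈ W' := ⟨hyW₁, hyW⟩
  let a' : Γ(Y, W') := resR inf_le_left a
  -- where the function generates the family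
  let E : Set X := {x | ∃ hx : x ∈ f ⁻¹ᵁ W', x ∈ dom S d ∧
    famQ S hW d x = Ideal.span {(X.presheaf.germ (f ⁻¹ᵁ W') x hx).hom (f.app W' a')}}
  have hsat : ∀ x ∈ E, ∀ x', f x' = f x → x' ∈ E := by
    rintro x ⟨hx, hxd, hQ⟩ x' hx'
    have hxd' := mem_dom S hW hfib hxd (specializes_of_eq hx')
    have hx'W : x' ∈ f ⁻¹ᵁ W' := show f x' ∈ W' by rw [hx']; exact hx
    refine ⟨hx'W, hxd', ?_⟩
    obtain ⟨b, -, hb⟩ := hgood x hxd
    have h1 := hb.comap_eq x rfl
    rw [hQ, ← psi_eq_germ f x (specializes_rfl : f x ⤳ f x) hx a', ← Set.image_singleton, ← Ideal.map_span,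
      comap_map_psi f x rfl] at h1
    rw [hb x' (specializes_of_eq hx'), ← psi_eq_germ f x' (specializes_of_eq hx') hx a',
      ← Set.image_singleton, ← Ideal.map_span, ← h1, Ideal.map_span, Set.image_singleton]
  have hnear : ∀ x ∈ E, ∃ (N : X.Opens) (hNW : N ≤ f ⁻¹ᵁ W') (hN : N ≤ dom S d) (τ : Γ(L, N)), x ∈ N ∧
      IsFrame τ ∧ res L hN (rho S d) = resR hNW (f.app W' a') • τ ∧ (N : Set X) ⊆ E := by
    rintro x ⟨hx, hxd, hQ⟩
    obtain ⟨U, hxU, e, he⟩ := exists_frame S.hL x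
    let N₁ := (U ⊓ dom S d) ⊓ f ⁻¹ᵁ W'
    have hN₁d : N₁ ≤ dom S d := fun z hz => hz.1.2
    have hN₁U : N₁ ≤ U := fun z hz => hz.1.1
    obtain ⟨h, hh⟩ := (he.res hN₁U).exists_coord le_rfl (res L hN₁d (rho S d))
    rw [res_self] at hh
    have hxN₁ : x ∈ N₁ := ⟨⟨hxU, hxd⟩, hx⟩
    set A := resR (inf_le_right : N₁ ≤ f ⁻¹ᵁ W') (f.app W' a') with hA
    have hAx : (X.presheaf.germ N₁ x hxN₁).hom A = (X.presheaf.germ (f ⁻¹ᵁ W') x hx).hom (f.app W' a') :=
      germ_resR' _ hxN₁ _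
    rw [famQ_eq S hW hN₁d (he.res hN₁U) hh hxN₁, ← hAx] at hQ
    obtain ⟨k, hk⟩ := Ideal.mem_span_singleton'.1 (hQ.le (Ideal.mem_span_singleton_self _))
    have hku : IsUnit k := by
      obtain ⟨m, hm⟩ := Ideal.mem_span_singleton'.1 (hQ.ge (Ideal.mem_span_singleton_self _))
      refine IsUnit.of_mul_eq_one m ((mul_cancel_right_mem_nonZeroDivisors
        (regular_coord S hW hd hN₁d (he.res hN₁U) hh hxN₁)).1 ?_)
      rw [mul_assoc, hm, hk, one_mul]
    obtain ⟨M, hxM, k, rfl⟩ := X.presheaf.germ_exist k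
    obtain ⟨M', hxM', i₁, i₂, heq⟩ := X.presheaf.germ_eq x (show x ∈ M ⊓ N₁ from ⟨hxM, hxN₁⟩) hxN₁
      (resR inf_le_left k * resR inf_le_right A) h (by rw [map_mul, germ_resR', germ_resR']; exact hk)
    let N := M' ⊓ X.basicOpen k
    have hN : N ≤ N₁ := fun z hz => i₂.le hz.1
    have hNM : N ≤ M := fun z hz => (i₁.le hz.1).1
    have heq' : resR i₁.le (resR inf_le_left k * resR inf_le_right A) = resR i₂.le h := heq
    have h2 := congrArg (resR (inf_le_left : N ≤ M')) heq'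
    simp only [map_mul, resR_resR, hA] at h2
    have hτ : IsFrame (resR hNM k • res L (hN.trans hN₁U) e) :=
      (he.res _).isUnit_smul (isUnit_resR _ _ fun z hz => hz.2)
    have hρ : res L (hN.trans hN₁d) (rho S d) =
        resR (hN.trans inf_le_right) (f.app W' a') • resR hNM k • res L (hN.trans hN₁U) e := by
      rw [← mul_smul, mul_comm, ← res_res hN₁d hN, hh, res_smul, res_res]
      congr 1
      exact h2.symm.trans (congrArg₂ (· * ·) (resR_resR _ _ _) (resR_resR _ _ _))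
    refine ⟨N, hN.trans inf_le_right, hN.trans hN₁d, _, ⟨hxM', (X.mem_basicOpen k x hxM).2 hku⟩, hτ, hρ,
      fun z hz => ⟨hN.trans inf_le_right hz, hN.trans hN₁d hz, ?_⟩⟩
    rw [famQ_eq S hW (hN.trans hN₁d) hτ hρ hz, germ_resR']
  have hEo : IsOpen E := isOpen_iff_forall_mem_open.2 fun x hx => by
    obtain ⟨N, _, _, _, hxN, _, _, hNE⟩ := hnear x hx
    exact ⟨N, hNE, N.2, hxN⟩
  let W₂ : Y.Opens := ⟨f '' E, by
    rw [← hquot.isOpen_preimage]
    have : f ⁻¹' (f '' E) = E :=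
      Set.Subset.antisymm (fun x' ⟨x, hx, h⟩ => hsat x hx x' h.symm) (Set.subset_preimage_image _ _)
    rwa [this]⟩
  have hE₂ : ∀ x ∈ f ⁻¹ᵁ W₂, x ∈ E := fun x' ⟨x, hx, h⟩ => hsat x hx x' h.symm
  have hW₂ : W₂ ≤ W' := fun z ⟨x, ⟨hx, _⟩, h⟩ => h ▸ hx
  have hx₀E : x₀ ∈ E := ⟨hyW', hx₀, by
    rw [ha x₀ specializes_rfl, psi_eq_germ f x₀ specializes_rfl hyW₁ a, app_resR',
      germ_resR' (f.preimage_mono inf_le_left) (show x₀ ∈ f ⁻¹ᵁ W' from hyW')]⟩
  let A₂ : Γ(Y, W₂) := resR hW₂ a'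
  let D₂ : Γ(Y, W₂) := resR (hW₂.trans inf_le_right) d
  have hA₂ : ∀ x (hx : x ∈ f ⁻¹ᵁ W₂), (X.presheaf.germ (f ⁻¹ᵁ W₂) x hx).hom (f.app W₂ A₂) ∈ nonZeroDivisors _ := by
    intro x hx
    obtain ⟨hxW', hxd, hQ⟩ := hE₂ x hx
    obtain ⟨N, hNW, hN, τ, hxN, hτ, hρ, -⟩ := hnear x ⟨hxW', hxd, hQ⟩
    rw [app_resR', germ_resR']
    have h1 := regular_coord S hW hd hN hτ hρ hxN
    rwa [germ_resR'] at h1
  choose N hNW hN τ hxN hτ hρ hNE using fun x : {x // x ∈ f ⁻¹ᵁ W₂} => hnear x.1 (hE₂ x.1 x.2)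
  let N' := fun x => N x ⊓ f ⁻¹ᵁ W₂
  obtain ⟨T, hT, -⟩ := existsUnique_glue (M := L) (V := f ⁻¹ᵁ W₂) N' (fun _ => inf_le_right)
    (fun p hp => ⟨⟨p, hp⟩, hxN ⟨p, hp⟩, hp⟩) (fun x => res L inf_le_left (τ x)) fun i j => by
      obtain ⟨g, hg⟩ := ((hτ j).res (inf_le_left : N' j ≤ N j)).exists_coord (inf_le_right : N' i ⊓ N' j ≤ N' j)
        (res L inf_le_left (res L (inf_le_left : N' i ≤ N i) (τ i)))
      suffices hg1 : g = 1 by rw [hg, hg1, one_smul]
      have hle : N' i ⊓ N' j ≤ f ⁻¹ᵁ W₂ := fun z hz => hz.1.2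
      refine smul_cancel (c := resR hle (f.app W₂ A₂)) (fun z hz => by rw [germ_resR']; exact hA₂ z _) ?_
      rw [mul_one]
      have h1 := congrArg (res L (inf_le_left.trans inf_le_left : N' i ⊓ N' j ≤ N i)) (hρ i)
      have h2 := congrArg (res L (inf_le_right.trans inf_le_left : N' i ⊓ N' j ≤ N j)) (hρ j)
      rw [res_res, res_smul, resR_resR] at h1 h2
      rw [res_res, res_res] at hg
      refine ((hτ j).coord_unique (inf_le_right.trans inf_le_left) ?_)
      rw [app_resR' hW₂, resR_resR, mul_smul, ← hg]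
      exact h1.symm.trans h2
  refine ⟨⟨W₂, A₂, D₂, T, hA₂, fun x hx => ?_, H23.TrivBasic.isFrame_of_germwise fun x hx => ?_, ?_⟩,
    ⟨x₀, hx₀E, rfl⟩⟩
  · rw [app_resR', germ_resR', ← psi_eq_germ f x (specializes_rfl : f x ⤳ f x) (inf_le_right (a := W₁) (hW₂ hx)) d]
    exact regular_germ S hW hd _ specializes_rfl
  · refine ⟨N' ⟨x, hx⟩, inf_le_right, ⟨hxN ⟨x, hx⟩, hx⟩, ?_⟩
    rw [hT ⟨x, hx⟩]
    exact (hτ _).res _
  · refine AModX.eq_of_locally _ _ fun x hx => ?_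
    let i : {x // x ∈ f ⁻¹ᵁ W₂} := ⟨x, hx.1⟩
    refine ⟨N' i ⊓ S.O, inf_le_inf_right _ inf_le_right, ⟨⟨hxN i, hx.1⟩, hx.2⟩, ?_⟩
    have h1 := ExtOn.res S (rho_spec S d) ((inf_le_left : N' i ≤ N i).trans (hN i))
    change res L _ (res L _ (rho S d)) = _ at h1
    rw [← res_res (hN i) (inf_le_left : N' i ≤ N i), hρ i, res_smul, ← hT i, res_smul, resR_resR, resR_resR,
      res_res] at h1
    simp only [res_smul, res_res, A₂, D₂, a', app_resR', resR_resR] at h1 ⊢
    exact h1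

include S in
/-- Invertible modules trivial on the fibres over maximal points descend. -/
theorem exists_descent [Surjective f] (hquot : Topology.IsQuotientMap f) :
    ∃ M : Y.Modules, PicF.IsInvertible M ∧ Nonempty ((Scheme.Modules.pullback f).obj M ≅ L) := by
  classical
  choose c hc using exists_chart S hfib hquot
  let U : Y → Y.Opens := fun y => (c y).W
  choose g hg using fun p q => (c q).hτ.exists_coord (f.preimage_mono (inf_le_right : (c p).W ⊓ (c q).W ≤ (c q).W))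
    (res L (f.preimage_mono (inf_le_left : (c p).W ⊓ (c q).W ≤ (c p).W)) (c p).τ)
  let u : ∀ p q, Γ(Y, (c p).W ⊓ (c q).W) := fun p q => resR inf_le_left (c p).d * resR inf_le_right (c q).a
  let v : ∀ p q, Γ(Y, (c p).W ⊓ (c q).W) := fun p q => resR inf_le_left (c p).a * resR inf_le_right (c q).d
  have hgv : ∀ p q, f.app _ (v p q) * g p q = f.app _ (u p q) := by
    intro p q
    refine eq_of_res_eq S.hY S.hO ((c q).hτ.coord_unique
      (inf_le_left.trans (f.preimage_mono (inf_le_right : (c p).W ⊓ (c q).W ≤ (c q).W))) ?_)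
    have h1 := congrArg (res L (inf_le_inf_right S.O (f.preimage_mono (inf_le_left : (c p).W ⊓ (c q).W ≤ (c p).W)))) (c p).eq
    have h2 := congrArg (res L (inf_le_inf_right S.O (f.preimage_mono (inf_le_right : (c p).W ⊓ (c q).W ≤ (c q).W)))) (c q).eq
    rw [res_res, res_smul, res_smul, resR_resR, res_res] at h1 h2
    have h3 := congrArg (res L (inf_le_left : f ⁻¹ᵁ ((c p).W ⊓ (c q).W) ⊓ S.O ≤ f ⁻¹ᵁ ((c p).W ⊓ (c q).W))) (hg p q)
    rw [res_res, res_smul, res_res] at h3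
    simp only [u, v, map_mul, app_resR', resR_resR]
    rw [mul_smul, ← h3, mul_comm (resR _ (f.app _ (c p).a)), mul_smul, h1, mul_smul, h2, smul_comm]
  have hv : ∀ p q x (hx : x ∈ f ⁻¹ᵁ ((c p).W ⊓ (c q).W)),
      (X.presheaf.germ (f ⁻¹ᵁ ((c p).W ⊓ (c q).W)) x hx).hom (f.app _ (v p q)) ∈ nonZeroDivisors _ := fun p q x hx => by
    simp only [v, map_mul, app_resR', germ_resR']
    exact mul_mem ((c p).ha x _) ((c q).hd x _)
  have hdesc : ∀ p q, ∃ b : Γ(Y, (c p).W ⊓ (c q).W), f.app _ b = g p q := by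
    intro p q
    have hloc : ∀ z : {z // z ∈ (c p).W ⊓ (c q).W}, ∃ (V : Y.Opens) (hV : V ≤ (c p).W ⊓ (c q).W) (b : Γ(Y, V)), z.1 ∈ V ∧
        f.app V b = resR (f.preimage_mono hV) (g p q) := by
      rintro ⟨z, hz⟩
      obtain ⟨x, rfl⟩ := f.surjective z
      have h1 := congrArg (X.presheaf.germ (f ⁻¹ᵁ ((c p).W ⊓ (c q).W)) x hz) (hgv p q)
      rw [map_mul, ← psi_eq_germ f x (specializes_rfl : f x ⤳ f x) hz (v p q),
        ← psi_eq_germ f x (specializes_rfl : f x ⤳ f x) hz (u p q)] at h1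
      have h2 : (Y.presheaf.germ _ (f x) hz).hom (u p q) ∈ Ideal.span {(Y.presheaf.germ _ (f x) hz).hom (v p q)} := by
        refine (comap_map_psi f x rfl _).le ?_
        rw [Ideal.mem_comap, Ideal.map_span, Set.image_singleton, Ideal.mem_span_singleton']
        exact ⟨_, by rw [mul_comm]; exact h1⟩
      obtain ⟨b, hb⟩ := Ideal.mem_span_singleton'.1 h2
      obtain ⟨B, hxB, b, rfl⟩ := Y.presheaf.germ_exist b
      obtain ⟨V, hxV, i₁, i₂, heq⟩ := Y.presheaf.germ_eq (f x) (show f x ∈ B ⊓ ((c p).W ⊓ (c q).W) from ⟨hxB, hz⟩) hz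
        (resR inf_le_left b * resR inf_le_right (v p q)) (u p q) (by rw [map_mul, germ_resR', germ_resR']; exact hb)
      refine ⟨V, i₂.le, resR (i₁.le.trans inf_le_left) b, hxV, ?_⟩
      refine smul_cancel (c := resR (f.preimage_mono i₂.le) (f.app _ (v p q)))
        (fun w hw => by rw [germ_resR']; exact hv p q w _) ?_
      rw [← map_mul, hgv p q, ← app_resR' i₂.le, ← app_resR' i₂.le]
      have h3 : resR i₁.le (resR inf_le_left b * resR inf_le_right (v p q)) = resR i₂.le (u p q) := heq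
      rw [map_mul, resR_resR, resR_resR] at h3
      rw [← map_mul, ← h3, mul_comm]
    choose V hV b hzV hb using hloc
    obtain ⟨B, hB, -⟩ := existsUnique_glue (M := Coh.structureModule Y) V hV (fun z hz => ⟨⟨z, hz⟩, hzV ⟨z, hz⟩⟩) b
      fun i j => by
        refine app_injective (f := f) ?_
        show f.app _ (resR _ (b i)) = f.app _ (resR _ (b j))
        rw [app_resR', app_resR', hb, hb, resR_resR, resR_resR]
    change Γ(Y, (c p).W ⊓ (c q).W) at B
    replace hB : ∀ i, resR (hV i) B = b i := hB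
    refine ⟨B, AModX.eq_of_locally (M := Coh.structureModule X) _ _ fun x hx => ?_⟩
    refine ⟨f ⁻¹ᵁ V ⟨f x, hx⟩, f.preimage_mono (hV _), hzV ⟨f x, hx⟩, ?_⟩
    show resR _ (f.app _ B) = resR _ (g p q)
    rw [← app_resR' (hV _), hB, hb]
  choose b hb using hdesc
  have htrans : ∀ (p q r : Y) (V : Y.Opens) (hp : V ≤ (c p).W) (hq : V ≤ (c q).W) (hr : V ≤ (c r).W),
      resR (le_inf hp hr) (b p r) = resR (le_inf hq hr) (b q r) * resR (le_inf hp hq) (b p q) := by
    intro p q r V hp hq hr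
    refine app_injective (f := f) ?_
    rw [map_mul, app_resR', app_resR', app_resR', hb, hb, hb]
    refine (c r).hτ.coord_unique (f.preimage_mono hr) ?_
    have e1 := congrArg (res L (f.preimage_mono (le_inf hp hr))) (hg p r)
    have e2 := congrArg (res L (f.preimage_mono (le_inf hq hr))) (hg q r)
    have e3 := congrArg (res L (f.preimage_mono (le_inf hp hq))) (hg p q)
    rw [res_res, res_smul, res_res] at e1 e2 e3
    rw [← e1, mul_comm, mul_smul, ← e2, ← e3]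
  have hbu : ∀ p q, IsUnit (b p q) := by
    intro p q
    refine IsUnit.of_mul_eq_one (resR (le_inf inf_le_right inf_le_left) (b q p)) ?_
    have h1 := htrans p q p ((c p).W ⊓ (c q).W) inf_le_left inf_le_right inf_le_left
    rw [resR_self] at h1
    rw [mul_comm, ← h1]
    refine app_injective (f := f) ?_
    rw [app_resR', hb, map_one]
    refine (c p).hτ.coord_unique (f.preimage_mono (inf_le_left : (c p).W ⊓ (c q).W ≤ (c p).W)) ?_
    have e1 := congrArg (res L (f.preimage_mono (le_inf inf_le_left inf_le_left : (c p).W ⊓ (c q).W ≤ (c p).W ⊓ (c p).W))) (hg p p)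
    rw [res_res, res_smul, res_res] at e1
    rw [← e1, one_smul]
  let t : H23.CocycleMod.Cocycle U :=
    { g := fun p q => (hbu p q).unit
      trans := fun p q r V hp hq hr => by simp only [IsUnit.unit_spec]; exact htrans p q r V hp hq hr }
  refine ⟨H23.CocycleMod.mod t, H23.CocycleMod.isInvertible t
    (eq_top_iff.2 fun y _ => Opens.mem_iSup.2 ⟨y, hc y⟩), ?_⟩
  have hmem : ∀ x : X, ∃ p : Y, x ∈ f ⁻¹ᵁ (c p).W := fun x => ⟨f x, hc (f x)⟩
  refine TorsPic.nonempty_iso_of_frames (fun p : Y => f ⁻¹ᵁ (c p).W) hmem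
    (fun p => pullElt f (H23.CocycleMod.frame t p))
    (fun p => isFrame_pullElt f (H23.CocycleMod.isFrame_frame t p)) (fun p => (c p).τ) (fun p => (c p).hτ) ?_
  intro p q V hp hq k hk
  let M := f ⁻¹ᵁ ((c q).W ⊓ (c p).W)
  have hVM : V ≤ M := fun z hz => ⟨hq hz, hp hz⟩
  have h1 := congrArg (pullElt f) (H23.CocycleMod.res_frame t q p)
  rw [InvX.pullElt_smul, ← res_pullElt, ← res_pullElt, show ((t.g q p : Γ(Y, (c q).W ⊓ (c p).W))) = b q p from IsUnit.unit_spec _,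
    hb] at h1
  have h1' := congrArg (res _ hVM) h1
  rw [res_res, res_smul, res_res] at h1'
  have h2 := congrArg (res L hVM) (hg q p)
  rw [res_res, res_smul, res_res] at h2
  rw [h2, (isFrame_pullElt f (H23.CocycleMod.isFrame_frame t p)).coord_unique hp (hk.symm.trans h1')]

end Groth.Agent.InvDescent
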